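import Mathlib
import Cfsg.Prelude.Def_BlockRank
import Cfsg.Prelude.Def_Classification2
import Cfsg.Agent.H634.Cols
import Cfsg.Agent.H634.HypS
import Cfsg.Agent.H634.ZJ

/-!
# Principal `2`-blocks with five characters (S4874): definitions and the counting criteria
-/

set_option autoImplicit false

open Cfsg

namespace Cfsg.Agent.H784.K5

open Cfsg.Agent.H634.HypS Cfsg.Agent.H634.ZJ

universe u

/-- the centralizer of `x` is not `2`-nilpotent -/
def NN {G : Type u} [Group G] (x : G) : Prop :=
  ¬ HasNormalPComplement 2 ↥(Subgroup.centralizer ({x} : Set G))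

/-- An element of order four whose centralizer is not `2`-nilpotent, or an element of order eight and a nontrivial
`2`-element whose centralizer is not `2`-nilpotent. -/
def Crit (G : Type u) [Group G] : Prop :=
  (∃ y : G, orderOf y = 4 ∧ NN y) ∨ ((∃ y : G, orderOf y = 8) ∧ ∃ z : G, PEl 2 z ∧ z ≠ 1 ∧ NN z)

end Cfsg.Agent.H784.K5
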