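import Mathlib
import Cfsg.Agent.H784.K5.Defs

/-!
# The counting criteria

`rank_sum_le` : `l(B₀) + ∑ l(B₀(C(x))) ≤ k(B₀)` for pairwise nonconjugate nontrivial `p`-elements `x`.
`two_NN`, `NN_two`, `four` : the resulting criteria for `k(B₀) ≤ l(B₀) + 3`; `crit_false`.
-/

set_option autoImplicit false

open Cfsg

namespace Cfsg.Agent.H784.K5

open Cfsg.Agent.H634.HypS Cfsg.Agent.H634.ZJ Cfsg.Agent.H634.Cols

universe u

variable {G : Type u} [Group G] [Finite G] {p : ℕ} [Fact p.Prime] {M : Ideal AlgInt}

theorem rank_sum_le (hM : IsPModular p M) (S : Finset G) (hS : ∀ x ∈ S, PEl p x) (hS1 : ∀ x ∈ S, x ≠ 1)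
    (hinj : ∀ x ∈ S, ∀ y ∈ S, IsConj x y → x = y) :
    blockRank p (principalBlock M G) +
      ∑ x ∈ S, blockRank p (principalBlock M ↥(Subgroup.centralizer ({x} : Set G))) ≤
      Nat.card (principalBlock M G) := by
  classical
  have h1 : PEl p (1 : G) := ⟨0, by simp⟩
  obtain ⟨X, hSX, hX, hXrep⟩ := exists_reps (p := p) (insert 1 S)
    (by
      intro z hz
      rcases Finset.mem_insert.1 hz with rfl | hz
      · exact h1
      · exact hS z hz)
    (by
      intro z hz w hw hc
      rcases Finset.mem_insert.1 hz with rfl | hz <;> rcases Finset.mem_insert.1 hw with rfl | hw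
      · rfl
      · exact (hS1 _ hw (one_conj hc)).elim
      · exact (hS1 _ hz (one_conj hc.symm)).elim
      · exact hinj z hz w hw hc)
  rw [card_principal_eq hM X hX hXrep]
  have h2 : ∑ z ∈ insert 1 S,
      blockRank p (principalBlock M ↥(Subgroup.centralizer ({z} : Set G))) ≤
      ∑ z ∈ X, blockRank p (principalBlock M ↥(Subgroup.centralizer ({z} : Set G))) :=
    Finset.sum_le_sum_of_subset hSX
  rw [Finset.sum_insert (fun h => hS1 1 h rfl)] at h2
  have h3 : blockRank p (principalBlock M ↥(Subgroup.centralizer ({(1 : G)} : Set G))) =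
      blockRank p (principalBlock M G) := by
    rw [← finrank_secMap_principal hM h1, finrank_secMap_one]
  rwa [h3] at h2

/-- `l(B₀) ≥ 2` for groups which are not `2`-nilpotent -/
theorem two_le_rank (hM : IsPModular p M) (h : ¬ HasNormalPComplement p G) :
    2 ≤ blockRank p (principalBlock M G) := by
  have h1 := blockRank_pos (G := G) hM
  by_contra hcon
  have := Fintype.ofFinite G
  exact h (S4646.compl_of_rank_one hM (by omega))

theorem two_le_of_NN {M : Ideal AlgInt} (hM : IsPModular 2 M) {x : G} (h : NN x) :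
    2 ≤ blockRank 2 (principalBlock M ↥(Subgroup.centralizer ({x} : Set G))) :=
  two_le_rank hM h

theorem pel_of_orderOf {x : G} {k : ℕ} (h : orderOf x = 2 ^ k) : PEl 2 x := ⟨k, h⟩

theorem ne_one_of_orderOf {x : G} {n : ℕ} (h : orderOf x = n) (hn : n ≠ 1) : x ≠ 1 := by
  rintro rfl
  rw [orderOf_one] at h
  exact hn h.symm

theorem orderOf_eq_of_isConj {x y : G} (h : IsConj x y) : orderOf x = orderOf y := by
  obtain ⟨c, hc⟩ := isConj_iff.1 h
  rw [← hc]
  exact (MulEquiv.orderOf_eq (MulAut.conj c) x).symm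

/-- the centralizer of a power is larger -/
theorem NN_of_le {x y : G} (h : Subgroup.centralizer ({x} : Set G) ≤ Subgroup.centralizer ({y} : Set G))
    (hx : NN x) : NN y := fun hy =>
  hx (hasNormalPComplement_of_injective (Subgroup.inclusion h) (Subgroup.inclusion_injective h) hy)

theorem NN_of_pow {x : G} (n : ℕ) (hx : NN x) : NN (x ^ n) := by
  refine NN_of_le (fun c hc => ?_) hx
  rw [Subgroup.mem_centralizer_singleton_iff] at hc ⊢
  exact (show Commute c x from hc).pow_right n

/-- not `2`-nilpotent centralizers are inherited by overgroups -/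
theorem NN_map {H : Type u} [Group H] [Finite H] (f : H →* G) (hf : Function.Injective f) {x : H}
    (hx : NN x) : NN (f x) := by
  intro h
  refine hx ?_
  let g : ↥(Subgroup.centralizer ({x} : Set H)) →* ↥(Subgroup.centralizer ({f x} : Set G)) :=
    { toFun := fun c => ⟨f c, by
        rw [Subgroup.mem_centralizer_singleton_iff]
        have := Subgroup.mem_centralizer_singleton_iff.1 c.2
        rw [← map_mul, ← map_mul, this]⟩
      map_one' := by ext; simp
      map_mul' := by intro a b; ext; simp }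
  exact hasNormalPComplement_of_injective g (fun a b hab => by
    apply Subtype.ext
    exact hf (congrArg Subtype.val hab)) h

/-- a subgroup which is not `2`-nilpotent and centralizes `x` -/
theorem NN_of_hom {H : Type u} [Group H] [Finite H] (f : H →* G) (hf : Function.Injective f) {x : G}
    (hx : ∀ h, f h * x = x * f h) (hH : ¬ HasNormalPComplement 2 H) : NN x := by
  intro h
  refine hH ?_
  let g : H →* ↥(Subgroup.centralizer ({x} : Set G)) :=
    { toFun := fun c => ⟨f c, by
        rw [Subgroup.mem_centralizer_singleton_iff]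
        exact hx c⟩
      map_one' := by ext; simp
      map_mul' := by intro a b; ext; simp }
  exact hasNormalPComplement_of_injective g (fun a b hab => hf (congrArg Subtype.val hab)) h

theorem Crit.map {H : Type u} [Group H] [Finite H] (f : H →* G) (hf : Function.Injective f) (h : Crit H) :
    Crit G := by
  rcases h with ⟨y, hy, hyN⟩ | ⟨⟨y, hy⟩, z, hz, hz1, hzN⟩
  · exact Or.inl ⟨f y, by rw [orderOf_injective f hf, hy], NN_map f hf hyN⟩
  · refine Or.inr ⟨⟨f y, by rw [orderOf_injective f hf, hy]⟩, f z, ?_, ?_, NN_map f hf hzN⟩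
    · obtain ⟨k, hk⟩ := hz
      exact ⟨k, by rw [orderOf_injective f hf, hk]⟩
    · intro h
      exact hz1 (hf (h.trans (map_one f).symm))

section criteria

variable {M : Ideal AlgInt}

/-- (K1) -/
theorem two_NN (hM : IsPModular 2 M) {x y : G} (hx : PEl 2 x) (hx1 : x ≠ 1) (hy : PEl 2 y) (hy1 : y ≠ 1)
    (hxy : ¬ IsConj x y) (hxN : NN x) (hyN : NN y) :
    blockRank 2 (principalBlock M G) + 4 ≤ Nat.card (principalBlock M G) := by
  have h := rank_add_rank_add_rank_le hM hx hx1 hy hy1 hxy
  have h1 := two_le_of_NN hM hxN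
  have h2 := two_le_of_NN hM hyN
  omega

theorem three_reps (hM : IsPModular 2 M) {x y z : G} (hx : PEl 2 x) (hx1 : x ≠ 1) (hy : PEl 2 y) (hy1 : y ≠ 1)
    (hz : PEl 2 z) (hz1 : z ≠ 1) (hxy : ¬ IsConj x y) (hxz : ¬ IsConj x z) (hyz : ¬ IsConj y z) :
    blockRank 2 (principalBlock M G) +
      (blockRank 2 (principalBlock M ↥(Subgroup.centralizer ({x} : Set G))) +
        (blockRank 2 (principalBlock M ↥(Subgroup.centralizer ({y} : Set G))) +
          blockRank 2 (principalBlock M ↥(Subgroup.centralizer ({z} : Set G))))) ≤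
      Nat.card (principalBlock M G) := by
  classical
  have h := rank_sum_le hM ({x, y, z} : Finset G)
    (by
      intro w hw
      simp only [Finset.mem_insert, Finset.mem_singleton] at hw
      rcases hw with rfl | rfl | rfl <;> assumption)
    (by
      intro w hw
      simp only [Finset.mem_insert, Finset.mem_singleton] at hw
      rcases hw with rfl | rfl | rfl <;> assumption)
    (by
      intro w hw v hv hc
      simp only [Finset.mem_insert, Finset.mem_singleton] at hw hv
      rcases hw with rfl | rfl | rfl <;> rcases hv with rfl | rfl | rfl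
      · rfl
      · exact (hxy hc).elim
      · exact (hxz hc).elim
      · exact (hxy hc.symm).elim
      · rfl
      · exact (hyz hc).elim
      · exact (hxz hc.symm).elim
      · exact (hyz hc.symm).elim
      · rfl)
  have hxy' : x ≠ y := fun h => hxy (h ▸ IsConj.refl _)
  have hxz' : x ≠ z := fun h => hxz (h ▸ IsConj.refl _)
  have hyz' : y ≠ z := fun h => hyz (h ▸ IsConj.refl _)
  rw [Finset.sum_insert (by
    simp only [Finset.mem_insert, Finset.mem_singleton, not_or]
    exact ⟨hxy', hxz'⟩), Finset.sum_pair hyz'] at h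
  exact h

/-- (K2) -/
theorem NN_two (hM : IsPModular 2 M) {x y z : G} (hx : PEl 2 x) (hx1 : x ≠ 1) (hy : PEl 2 y) (hy1 : y ≠ 1)
    (hz : PEl 2 z) (hz1 : z ≠ 1) (hxy : ¬ IsConj x y) (hxz : ¬ IsConj x z) (hyz : ¬ IsConj y z) (hxN : NN x) :
    blockRank 2 (principalBlock M G) + 4 ≤ Nat.card (principalBlock M G) := by
  have h := three_reps hM hx hx1 hy hy1 hz hz1 hxy hxz hyz
  have h1 := two_le_of_NN hM hxN
  have h2 := blockRank_pos (G := ↥(Subgroup.centralizer ({y} : Set G))) hM
  have h3 := blockRank_pos (G := ↥(Subgroup.centralizer ({z} : Set G))) hM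
  omega

theorem crit_le (hM : IsPModular 2 M) (h : Crit G) :
    blockRank 2 (principalBlock M G) + 4 ≤ Nat.card (principalBlock M G) := by
  have key : ∀ {a b : G} {m n : ℕ}, orderOf a = m → orderOf b = n → m ≠ n → ¬ IsConj a b := by
    intro a b m n ha hb hmn hc
    exact hmn (by rw [← ha, ← hb, orderOf_eq_of_isConj hc])
  rcases h with ⟨y, hy, hyN⟩ | ⟨⟨y, hy⟩, z, ⟨k, hk⟩, hz1, hzN⟩
  · have h2 : orderOf (y ^ 2) = 2 := by
      rw [orderOf_pow' y (by norm_num), hy]; norm_num
    exact two_NN hM (x := y) (y := y ^ 2) ⟨2, hy⟩ (ne_one_of_orderOf hy (by norm_num)) ⟨1, by rw [h2]; rfl⟩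
      (ne_one_of_orderOf h2 (by norm_num)) (key hy h2 (by norm_num)) hyN (NN_of_pow 2 hyN)
  · have h4 : orderOf (y ^ 2) = 4 := by
      rw [orderOf_pow' y (by norm_num), hy]; norm_num
    -- an involution with the same property
    have hk0 : k ≠ 0 := by
      rintro rfl
      rw [pow_zero, orderOf_eq_one_iff] at hk
      exact hz1 hk
    obtain ⟨t, ht, htN⟩ : ∃ t : G, orderOf t = 2 ∧ NN t := by
      refine ⟨z ^ (2 ^ (k - 1)), ?_, NN_of_pow _ hzN⟩
      rw [orderOf_pow' z (by positivity), hk]
      have h5 : 2 ^ k = 2 ^ (k - 1) * 2 := by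
        rw [← pow_succ]
        congr 1
        omega
      rw [h5, Nat.gcd_eq_right (dvd_mul_right _ _), Nat.mul_div_cancel_left _ (by positivity)]
    exact NN_two hM (x := t) (y := y ^ 2) (z := y) ⟨1, by rw [ht]; rfl⟩ (ne_one_of_orderOf ht (by norm_num))
      ⟨2, by rw [h4]; rfl⟩ (ne_one_of_orderOf h4 (by norm_num)) ⟨3, by rw [hy]; rfl⟩
      (ne_one_of_orderOf hy (by norm_num)) (key ht h4 (by norm_num)) (key ht hy (by norm_num))
      (key h4 hy (by norm_num)) htN

theorem crit_false (hM : IsPModular 2 M) (hk : Nat.card (principalBlock M G) = 5)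
    (hl : 2 ≤ blockRank 2 (principalBlock M G)) (h : Crit G) : False := by
  have := crit_le hM h
  omega

end criteria

end Cfsg.Agent.H784.K5
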